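import Mathlib
import Cfsg.Agent.S4441
import Cfsg.Agent.BR.RedV
import Cfsg.Agent.BR.RedX
import Cfsg.Agent.BR.RedK

/-!
# S4346, step 4 (helper1): a perfect group whose Sylow 3-subgroups have order 3 never has 22 of them

`S4441` at `p = 3`: the principal block is `X ⊔ Y`, `|X| = 2`, `|Y| = 1`; the three degrees divide
`f n_3 = 44` (`br_redx_degree_dvd`, `br_redv_dvd_Y`), one of them is `1`, and the signed sum of the
degrees vanishes.  But `44` has no two consecutive divisors `> 1`.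
See `notes/S4346_helper1.md`, section 4.
-/

set_option autoImplicit false
set_option linter.style.haveILetI false

namespace Cfsg.Agent.N22

open Cfsg Cfsg.Agent.Helper6 Cfsg.Agent.BR

universe u

/-- the divisors of `44` -/
theorem n22_div44 (a : ℕ) (ha : a ∣ 44) :
    a = 1 ∨ a = 2 ∨ a = 4 ∨ a = 11 ∨ a = 22 ∨ a = 44 := by
  have h1 : a ≤ 44 := Nat.le_of_dvd (by norm_num) ha
  interval_cases a <;> omega

/-- `44` has no two consecutive divisors `> 1`, in the signed form used below -/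
theorem n22_arith (a b : ℕ) (ha : a ∣ 44) (hb : b ∣ 44) (ha2 : 2 ≤ a) (hb2 : 2 ≤ b)
    (s₀ s₁ s₂ : ℤ) (h₀ : s₀ = 1 ∨ s₀ = -1) (h₁ : s₁ = 1 ∨ s₁ = -1) (h₂ : s₂ = 1 ∨ s₂ = -1) :
    s₀ + s₁ * (a : ℤ) + s₂ * (b : ℤ) ≠ 0 := by
  rcases n22_div44 a ha with h | h | h | h | h | h <;>
  rcases n22_div44 b hb with h' | h' | h' | h' | h' | h' <;>
  rcases h₀ with e₀ | e₀ <;> rcases h₁ with e₁ | e₁ <;> rcases h₂ with e₂ | e₂ <;>
  subst h h' e₀ e₁ e₂ <;> omega

variable {G : Type u} [Group G]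

set_option maxHeartbeats 1600000 in
/-- **step 4**: a perfect group with a Sylow 3-subgroup of order 3 does not have exactly 22 Sylow
3-subgroups -/
theorem n22_char [Finite G] (hperf : commutator G = ⊤) (P : Sylow 3 G)
    (hP : Nat.card (P : Subgroup G) = 3) : Nat.card (Sylow 3 G) ≠ 22 := by
  classical
  intro h22
  haveI : Fintype G := Fintype.ofFinite G
  haveI : Finite (Cfsg.IrrCharacter G) := irr_finite
  obtain ⟨M, hM⟩ := exists_isPModular 3 Nat.prime_three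
  obtain ⟨f, hf⟩ : ∃ f : ℕ, (Subgroup.centralizer ((P : Subgroup G) : Set G)).relIndex
      (Subgroup.normalizer ((P : Subgroup G) : Set G)) = f := ⟨_, rfl⟩
  have hP1 : (P : Subgroup G) ≠ ⊥ := by
    intro h
    rw [h, Subgroup.card_bot] at hP
    omega
  have hf1 : f ≠ 1 := by
    intro h1
    rw [h1, Subgroup.relIndex_eq_one] at hf
    exact hP1 (br_redK_transfer hperf 3 P hf)
  obtain ⟨J, iF, -, -, -, hJ, -⟩ := Cfsg.Agent.D1.d1_valp_main (M := M) 3 hM P hP f hf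
  have hf2 : f = 2 := by
    have h1 : f ∣ 2 := ⟨Fintype.card J, by rw [mul_comm]; exact hJ.symm⟩
    have h2 : f ≤ 2 := Nat.le_of_dvd (by norm_num) h1
    have h3 : f ≠ 0 := by
      intro h0
      rw [h0, mul_zero] at hJ
      omega
    omega
  obtain ⟨X, Y, hB, hdisj, hcX, hcY, εX, ε, hX, hε, hYdeg, hYreg, hrel⟩ :=
    Cfsg.Agent.S4441.result 3 M hM (by norm_num) P hP f hf
  have hp1 : ¬ 3 ∣ orderOf (1 : G) := by
    rw [orderOf_one]
    norm_num
  have hXval : ∀ χ ∈ X, ∀ x : G, x ∈ (P : Subgroup G) → x ≠ 1 →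
      (χ : G → ℂ) x = (εX χ : ℂ) := by
    intro χ hχ x hx hx1
    have := (hX χ hχ).2.2 x hx hx1 1 (one_mem _) hp1
    rwa [mul_one] at this
  have hdvdX : ∀ χ ∈ X, Cfsg.charDegree (χ : G → ℂ) ∣ 44 := by
    intro χ hχ
    have := br_redx_degree_dvd 3 P hP χ (εX χ) (hX χ hχ).1 (hXval χ hχ)
    rwa [hf, h22, hf2] at this
  have hdvdY : ∀ θ ∈ Y, Cfsg.charDegree (θ : G → ℂ) ∣ 44 := by
    intro θ hθ
    have := br_redv_dvd_Y 3 M hM P hP X Y hB hdisj εX ε hε hXval hYreg hrel θ hθ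
    rwa [hf, h22, hf2] at this
  -- the members of `X` and `Y`
  rw [hf2] at hcX hcY
  obtain ⟨⟨χa, hχa⟩, ⟨χb, hχb⟩, hab, huniv⟩ := Nat.card_eq_two_iff.mp hcX
  have hab' : χa ≠ χb := fun h => hab (Subtype.ext h)
  have hXeq : X = {χa, χb} := by
    ext χ
    constructor
    · intro hχ
      have h1 : (⟨χ, hχ⟩ : X) ∈ ({⟨χa, hχa⟩, ⟨χb, hχb⟩} : Set X) := by
        rw [huniv]
        exact Set.mem_univ _
      rcases h1 with h1 | h1
      · left; exact congrArg Subtype.val h1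
      · right; exact congrArg Subtype.val h1
    · rintro (rfl | rfl)
      · exact hχa
      · exact hχb
  have hcY1 : Nat.card Y = 1 := by
    rw [hcY]
  obtain ⟨hYsub, ⟨⟨θ, hθ⟩⟩⟩ := Nat.card_eq_one_iff_unique.mp hcY1
  have hYeq : ∀ ψ ∈ Y, ψ = θ := fun ψ hψ =>
    congrArg Subtype.val (Subsingleton.elim (⟨ψ, hψ⟩ : Y) ⟨θ, hθ⟩)
  have hθa : θ ≠ χa := fun h => Set.disjoint_left.mp hdisj hχa (h ▸ hθ)
  have hθb : θ ≠ χb := fun h => Set.disjoint_left.mp hdisj hχb (h ▸ hθ)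
  -- the degree relation
  obtain ⟨a, ha⟩ : ∃ a : ℕ, a = Cfsg.charDegree (χa : G → ℂ) := ⟨_, rfl⟩
  obtain ⟨b, hb⟩ : ∃ b : ℕ, b = Cfsg.charDegree (χb : G → ℂ) := ⟨_, rfl⟩
  obtain ⟨y, hy⟩ : ∃ y : ℕ, y = Cfsg.charDegree (θ : G → ℂ) := ⟨_, rfl⟩
  have hrelZ : ε * (y : ℤ) = εX χa * (a : ℤ) + εX χb * (b : ℤ) := by
    have h1 := hrel θ hθ 1 hp1
    rw [hXeq, finsum_mem_pair hab', (br_redb_degree θ).2, (br_redb_degree χa).2,
      (br_redb_degree χb).2, ← ha, ← hb, ← hy] at h1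
    exact_mod_cast h1
  have hda : a ∣ 44 := ha ▸ hdvdX χa hχa
  have hdb : b ∣ 44 := hb ▸ hdvdX χb hχb
  have hdy : y ∣ 44 := hy ▸ hdvdY θ hθ
  have hsa := (hX χa hχa).1
  have hsb := (hX χb hχb).1
  -- degree `1` means trivial
  have hdeg1 : ∀ χ : Cfsg.IrrCharacter G, χ ≠ trivIrr G → 2 ≤ Cfsg.charDegree (χ : G → ℂ) := by
    intro χ hne
    obtain ⟨hpos, hcast⟩ := br_redb_degree χ
    have h1 : Cfsg.charDegree (χ : G → ℂ) ≠ 1 := by
      intro h1
      apply hne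
      apply br_redb_eq_triv hperf
      rw [hcast, h1, Nat.cast_one]
    omega
  have htriv : trivIrr G ∈ X ∪ Y := by
    rw [← hB]
    exact trivIrr_mem_principalBlock hM.2.1
  have hεε : ε * ε = 1 := by rcases hε with h | h <;> rw [h] <;> norm_num
  rw [hXeq] at htriv
  rcases htriv with (ht | ht) | ht
  · -- the trivial character is `χa`
    have hb2 : 2 ≤ b := hb ▸ hdeg1 χb (fun h => hab' (ht.symm ▸ h.symm))
    have hy2 : 2 ≤ y := hy ▸ hdeg1 θ (fun h => hθa (ht.symm ▸ h))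
    have ha1 : a = 1 := by rw [ha, ← ht]; exact br_redb_charDegree_triv
    have h2 := n22_arith b y hdb hdy hb2 hy2 (εX χa) (εX χb) (-ε) hsa hsb
      (by rcases hε with h | h <;> rw [h] <;> norm_num)
    apply h2
    rw [ha1] at hrelZ
    push_cast at hrelZ
    linear_combination -hrelZ
  · -- the trivial character is `χb`
    have ha2 : 2 ≤ a := ha ▸ hdeg1 χa (fun h => hab' (ht.symm ▸ h))
    have hy2 : 2 ≤ y := hy ▸ hdeg1 θ (fun h => hθb (ht.symm ▸ h))
    have hb1 : b = 1 := by rw [hb, ← ht]; exact br_redb_charDegree_triv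
    have h2 := n22_arith a y hda hdy ha2 hy2 (εX χb) (εX χa) (-ε) hsb hsa
      (by rcases hε with h | h <;> rw [h] <;> norm_num)
    apply h2
    rw [hb1] at hrelZ
    push_cast at hrelZ
    linear_combination -hrelZ
  · -- the trivial character is `θ`
    have hθt : trivIrr G = θ := hYeq _ ht
    have ha2 : 2 ≤ a := ha ▸ hdeg1 χa (fun h => hθa (hθt ▸ h.symm))
    have hb2 : 2 ≤ b := hb ▸ hdeg1 χb (fun h => hθb (hθt ▸ h.symm))
    have hy1 : y = 1 := by rw [hy, ← hθt]; exact br_redb_charDegree_triv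
    have h2 := n22_arith a b hda hdb ha2 hb2 (-ε) (εX χa) (εX χb)
      (by rcases hε with h | h <;> rw [h] <;> norm_num) hsa hsb
    apply h2
    rw [hy1] at hrelZ
    push_cast at hrelZ
    linear_combination -hrelZ

end Cfsg.Agent.N22
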