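import Mathlib

/-!
# S4346, step 2, part A (helper1): Sylow intersections of index 3

`notes/S4346_helper1.md`, section 2: facts (a), (d), (e) and Lemma A ("triangles are collinear").
Everything is about Sylow `3`-subgroups `P`, `S` of a finite group and the numbers
`(S : Subgroup G).relIndex P = |P : P ∩ S|`.
-/

set_option autoImplicit false
set_option linter.style.haveILetI false

namespace Cfsg.Agent.N22

universe u

variable {G : Type u} [Group G]

/-- `|D| |S : D| = |S|` -/
theorem n22_card_mul_relIndex {D S : Subgroup G} (h : D ≤ S) :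
    Nat.card D * D.relIndex S = Nat.card S := by
  rw [← Subgroup.relIndex_bot_left, ← Subgroup.relIndex_bot_left,
    Subgroup.relIndex_mul_relIndex _ _ _ bot_le h]

/-- a subgroup of index `3` of a `3`-group is normal -/
theorem n22_le_normalizer [Finite G] {D K : Subgroup G} (hK : IsPGroup 3 K) (hDK : D ≤ K)
    (h3 : D.relIndex K = 3) : K ≤ Subgroup.normalizer (D : Set G) := by
  haveI : Fact (Nat.Prime 3) := ⟨Nat.prime_three⟩
  rw [← Subgroup.normal_subgroupOf_iff_le_normalizer hDK]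
  apply Subgroup.normal_of_index_eq_minFac_card
  obtain ⟨n, hn⟩ := IsPGroup.iff_card.mp hK
  have hdvd : 3 ∣ Nat.card K := by
    rw [← h3]
    exact Subgroup.relIndex_dvd_card D K
  have hn0 : n ≠ 0 := by
    intro h0
    rw [hn, h0, pow_zero] at hdvd
    omega
  rw [hn, Nat.Prime.pow_minFac Nat.prime_three hn0]
  exact h3

/-- the Sylow `3`-subgroups have the same order -/
theorem n22_card_sylow_eq [Finite G] (P S : Sylow 3 G) :
    Nat.card (P : Subgroup G) = Nat.card (S : Subgroup G) := by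
  haveI : Fact (Nat.Prime 3) := ⟨Nat.prime_three⟩
  rw [Sylow.card_eq_multiplicity P, Sylow.card_eq_multiplicity S]

/-- `|P : P ∩ S| = |S : S ∩ P|` -/
theorem n22_relIndex_symm [Finite G] (P S : Sylow 3 G) :
    (S : Subgroup G).relIndex (P : Subgroup G) = (P : Subgroup G).relIndex (S : Subgroup G) := by
  have h1 := n22_card_mul_relIndex (inf_le_left : (P : Subgroup G) ⊓ S ≤ P)
  have h2 := n22_card_mul_relIndex (inf_le_right : (P : Subgroup G) ⊓ S ≤ S)
  rw [Subgroup.inf_relIndex_left] at h1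
  rw [Subgroup.inf_relIndex_right] at h2
  have h3 : Nat.card ((P : Subgroup G) ⊓ S : Subgroup G) ≠ 0 := Nat.card_pos.ne'
  have h4 := n22_card_sylow_eq P S
  rw [← h1, ← h2] at h4
  exact Nat.eq_of_mul_eq_mul_left (Nat.pos_of_ne_zero h3) h4

/-- `|P : P ∩ S| = 1` only for `S = P` -/
theorem n22_relIndex_eq_one {P S : Sylow 3 G}
    (h : (S : Subgroup G).relIndex (P : Subgroup G) = 1) : S = P := by
  rw [Subgroup.relIndex_eq_one] at h
  exact Sylow.ext (P.3 S.2 h)

/-- the key step: a subgroup `E` of index `3` in `S` lying in `S' ≠ S` is `S ∩ S'` -/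
theorem n22_inf_eq {S S' : Sylow 3 G} {E : Subgroup G} (hE : E ≤ S) (hE' : E ≤ S')
    (h3 : E.relIndex (S : Subgroup G) = 3) (hne : S ≠ S') :
    (S : Subgroup G) ⊓ S' = E ∧ (S' : Subgroup G).relIndex (S : Subgroup G) = 3 := by
  have h1 := Subgroup.relIndex_mul_relIndex _ _ _ (le_inf hE hE' : E ≤ (S : Subgroup G) ⊓ S')
    (inf_le_left : (S : Subgroup G) ⊓ S' ≤ S)
  rw [h3, Subgroup.inf_relIndex_left] at h1
  have h2 : (S' : Subgroup G).relIndex (S : Subgroup G) ≠ 1 := by
    intro h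
    exact hne (n22_relIndex_eq_one h).symm
  have h4 : (S' : Subgroup G).relIndex (S : Subgroup G) ∣ 3 := Dvd.intro_left _ h1
  rcases (Nat.dvd_prime Nat.prime_three).mp h4 with h5 | h5
  · exact absurd h5 h2
  · rw [h5] at h1
    have h6 : E.relIndex ((S : Subgroup G) ⊓ S') = 1 := by omega
    rw [Subgroup.relIndex_eq_one] at h6
    exact ⟨le_antisymm h6 (le_inf hE hE'), h5⟩

/-- **(e)**: two different Sylow subgroups through `P ∩ Q` (of index `3`) meet in `P ∩ Q` -/
theorem n22_line_inter [Finite G] (P Q S S' : Sylow 3 G)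
    (hPQ : (Q : Subgroup G).relIndex (P : Subgroup G) = 3)
    (hS : (P : Subgroup G) ⊓ Q ≤ S) (hS' : (P : Subgroup G) ⊓ Q ≤ S') (hne : S ≠ S') :
    (S' : Subgroup G).relIndex (S : Subgroup G) = 3 ∧
      (S : Subgroup G) ⊓ S' = (P : Subgroup G) ⊓ Q := by
  have h1 := n22_card_mul_relIndex (inf_le_left : (P : Subgroup G) ⊓ Q ≤ P)
  rw [Subgroup.inf_relIndex_left, hPQ] at h1
  have h2 := n22_card_mul_relIndex hS
  rw [← n22_card_sylow_eq P S, ← h1] at h2
  have h3 : Nat.card ((P : Subgroup G) ⊓ Q : Subgroup G) ≠ 0 := Nat.card_pos.ne'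
  have h4 : ((P : Subgroup G) ⊓ Q).relIndex (S : Subgroup G) = 3 :=
    Nat.eq_of_mul_eq_mul_left (Nat.pos_of_ne_zero h3) h2
  obtain ⟨h5, h6⟩ := n22_inf_eq hS hS' h4 hne
  exact ⟨h6, h5⟩

/-- conjugating a normal-in-`P` subgroup of `S` by an element of `P` -/
theorem n22_le_smul [Finite G] (P S : Sylow 3 G)
    (hPS : (S : Subgroup G).relIndex (P : Subgroup G) = 3) (d : G) (hd : d ∈ (P : Subgroup G)) :
    (P : Subgroup G) ⊓ S ≤ ((d • S : Sylow 3 G) : Subgroup G) := by
  have hn : (P : Subgroup G) ≤ Subgroup.normalizer (((P : Subgroup G) ⊓ S : Subgroup G) : Set G) :=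
    n22_le_normalizer P.2 inf_le_left (by rw [Subgroup.inf_relIndex_left]; exact hPS)
  intro z hz
  rw [Sylow.coe_subgroup_smul, Subgroup.mem_pointwise_smul_iff_inv_smul_mem]
  have hd' : d⁻¹ ∈ Subgroup.normalizer (((P : Subgroup G) ⊓ S : Subgroup G) : Set G) :=
    hn (inv_mem hd)
  have h1 := (Subgroup.mem_normalizer_iff.mp hd' z).mp hz
  rw [inv_inv] at h1
  have h2 : (MulAut.conj d)⁻¹ • z = d⁻¹ * z * d := by
    rw [MulAut.smul_def, MulAut.conj_inv_apply]
  rw [h2]
  exact h1.2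

/-- **Lemma A**: three Sylow subgroups which pairwise meet in index `3` contain a common subgroup
of index `3` -/
theorem n22_triangle [Finite G] (P Q S : Sylow 3 G)
    (hPQ : (Q : Subgroup G).relIndex (P : Subgroup G) = 3)
    (hPS : (S : Subgroup G).relIndex (P : Subgroup G) = 3)
    (hQS : (S : Subgroup G).relIndex (Q : Subgroup G) = 3) :
    (P : Subgroup G) ⊓ Q ≤ S := by
  by_contra hD
  -- an element of `P ∩ Q` moving `S`
  have hex : ∃ d ∈ (P : Subgroup G) ⊓ Q, d ∉ Subgroup.normalizer ((S : Subgroup G) : Set G) := by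
    by_contra hcon
    push Not at hcon
    apply hD
    have h1 : (P : Subgroup G) ⊓ Q ≤ ((P : Subgroup G) ⊓ Q) ⊓
        Subgroup.normalizer ((S : Subgroup G) : Set G) := le_inf le_rfl hcon
    have h2 : IsPGroup 3 ((P : Subgroup G) ⊓ Q : Subgroup G) := P.2.to_inf_left
    have h3 : ((P : Subgroup G) ⊓ Q) ⊓ Subgroup.normalizer ((S : Subgroup G) : Set G) =
        ((P : Subgroup G) ⊓ Q) ⊓ S := h2.inf_normalizer_sylow S
    rw [h3] at h1
    exact h1.trans inf_le_right
  obtain ⟨d, hd, hdS⟩ := hex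
  have hne : S ≠ d • S := by
    intro h
    exact hdS (Sylow.smul_eq_iff_mem_normalizer.mp h.symm)
  have hSP : (P : Subgroup G).relIndex (S : Subgroup G) = 3 := by
    rw [← n22_relIndex_symm P S]; exact hPS
  have hSQ : (Q : Subgroup G).relIndex (S : Subgroup G) = 3 := by
    rw [← n22_relIndex_symm Q S]; exact hQS
  have h1 := n22_inf_eq (S := S) (S' := d • S) (E := (P : Subgroup G) ⊓ S) inf_le_right
    (n22_le_smul P S hPS d hd.1) (by rw [Subgroup.inf_relIndex_right]; exact hSP) hne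
  have h2 := n22_inf_eq (S := S) (S' := d • S) (E := (Q : Subgroup G) ⊓ S) inf_le_right
    (n22_le_smul Q S hQS d hd.2) (by rw [Subgroup.inf_relIndex_right]; exact hSQ) hne
  have h3 : (P : Subgroup G) ⊓ S = (Q : Subgroup G) ⊓ S := by rw [← h1.1, ← h2.1]
  have h4 : (P : Subgroup G) ⊓ S ≤ (P : Subgroup G) ⊓ Q :=
    le_inf inf_le_left (h3 ▸ inf_le_left)
  have h5 := Subgroup.relIndex_mul_relIndex _ _ _ h4 (inf_le_left : (P : Subgroup G) ⊓ Q ≤ P)
  rw [Subgroup.inf_relIndex_left, Subgroup.inf_relIndex_left, hPQ, hPS] at h5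
  have h6 : ((P : Subgroup G) ⊓ S).relIndex ((P : Subgroup G) ⊓ Q) = 1 := by omega
  rw [Subgroup.relIndex_eq_one] at h6
  exact hD (h6.trans inf_le_right)

end Cfsg.Agent.N22
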