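import Mathlib

/-!
# S4346, step 2, part C (helper1): the counting argument, abstractly

`notes/S4346_helper1.md`, section 2, Lemma B and (g): a graph on `22` points, regular of valency
`d ∈ {3, 12, 21}`, in which every edge `P ~ Q` lies on a "line" `L P Q` (a clique containing all
common neighbours of any two of its points, of size `≡ 1 mod 3`), is complete, and every line is
everything.
-/

set_option autoImplicit false

namespace Cfsg.Agent.N22

/-- if all non-empty fibres of `f` on `s` have `k` elements then `k` divides `#s` -/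
theorem n22_dvd_card_of_fibers {A B : Type*} [DecidableEq A] [DecidableEq B] (s : Finset A)
    (f : A → B) (k : ℕ) (h : ∀ a ∈ s, (s.filter (fun a' => f a' = f a)).card = k) :
    k ∣ s.card := by
  rw [Finset.card_eq_sum_card_image f s]
  apply Finset.dvd_sum
  intro b hb
  obtain ⟨a, ha, rfl⟩ := Finset.mem_image.mp hb
  rw [h a ha]

/-- the arithmetic of Lemma B -/
theorem n22_count_arith (d m : ℕ) (hd : d = 3 ∨ d = 12 ∨ d = 21) (hm1 : 1 ≤ m) (hm3 : m % 3 = 0)
    (hmd : m ≤ d) (h : m * (d - m) ≤ 21 - d) : m = d := by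
  rcases hd with h' | h' | h' <;> subst h' <;> interval_cases m <;> omega

set_option maxHeartbeats 800000 in
/-- **the abstract geometry** -/
theorem n22_abstract {Ω : Type*} [Fintype Ω] [DecidableEq Ω] (hΩ : Fintype.card Ω = 22)
    (adj : Ω → Ω → Prop) [DecidableRel adj] (L : Ω → Ω → Finset Ω) (d : ℕ)
    (hd : d = 3 ∨ d = 12 ∨ d = 21)
    (hirr : ∀ P, ¬ adj P P) (hsymm : ∀ P Q, adj P Q → adj Q P)
    (hdeg : ∀ P, (Finset.univ.filter (adj P)).card = d)
    (hL1 : ∀ P Q, adj P Q → P ∈ L P Q ∧ Q ∈ L P Q)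
    (hL2 : ∀ P Q, adj P Q → ∀ S ∈ L P Q, ∀ S' ∈ L P Q, S ≠ S' → adj S S' ∧ L S S' = L P Q)
    (hL3 : ∀ P Q S, adj P Q → adj P S → adj Q S → S ∈ L P Q)
    (hL4 : ∀ P Q, adj P Q → (L P Q).card % 3 = 1) :
    ∀ P Q, adj P Q → L P Q = Finset.univ := by
  classical
  obtain ⟨Γ, hΓ, hΓc⟩ : ∃ Γ : Ω → Finset Ω, (∀ P S, S ∈ Γ P ↔ adj P S) ∧ ∀ P, (Γ P).card = d :=
    ⟨fun P => Finset.univ.filter (adj P), fun P S => by simp, hdeg⟩
  have hPΓ : ∀ P, P ∉ Γ P := fun P h => hirr P ((hΓ P P).1 h)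
  -- Step A: every line through `P` is `{P} ∪ Γ P`
  have hA : ∀ P Q, adj P Q → L P Q = insert P (Γ P) := by
    intro P Q hPQ
    obtain ⟨Λ, hΛ⟩ : ∃ Λ : Finset Ω, Λ = L P Q := ⟨_, rfl⟩
    rw [← hΛ]
    have hL2' := hL2 P Q hPQ
    have hL4' := hL4 P Q hPQ
    obtain ⟨hPΛ, hQΛ⟩ := hL1 P Q hPQ
    rw [← hΛ] at hL2' hL4' hPΛ hQΛ
    have hQP : Q ≠ P := fun h => hirr P (h ▸ hPQ)
    have hsub : Λ.erase P ⊆ Γ P := by
      intro S hS
      obtain ⟨hSP, hSΛ⟩ := Finset.mem_erase.mp hS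
      exact (hΓ P S).2 (hL2' P hPΛ S hSΛ (Ne.symm hSP)).1
    obtain ⟨m, hm⟩ : ∃ m : ℕ, m = (Λ.erase P).card := ⟨_, rfl⟩
    have hm1 : m + 1 = Λ.card := by rw [hm]; exact Finset.card_erase_add_one hPΛ
    have hmd : m ≤ d := by rw [hm, ← hΓc P]; exact Finset.card_le_card hsub
    have hm0 : 1 ≤ m := by
      rw [hm]
      exact Finset.card_pos.mpr ⟨Q, Finset.mem_erase.mpr ⟨hQP, hQΛ⟩⟩
    have hm3 : m % 3 = 0 := by omega
    have hFcard : ∀ S ∈ Λ.erase P, (Γ S \ Λ).card = d - m := by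
      intro S hS
      obtain ⟨hSP, hSΛ⟩ := Finset.mem_erase.mp hS
      have h1 : Γ S ∩ Λ = Λ.erase S := by
        ext T
        rw [Finset.mem_inter, Finset.mem_erase, hΓ]
        constructor
        · rintro ⟨h1, h2⟩
          exact ⟨fun h => hirr S (h ▸ h1), h2⟩
        · rintro ⟨h1, h2⟩
          exact ⟨(hL2' S hSΛ T h2 (Ne.symm h1)).1, h2⟩
      have h2 : (Λ.erase S).card + 1 = Λ.card := Finset.card_erase_add_one hSΛ
      have h3 := Finset.card_sdiff_add_card_inter (Γ S) Λ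
      rw [h1, hΓc S] at h3
      omega
    have hFdisj : ∀ S ∈ Λ.erase P, ∀ S' ∈ Λ.erase P, S ≠ S' →
        Disjoint (Γ S \ Λ) (Γ S' \ Λ) := by
      intro S hS S' hS' hne
      rw [Finset.disjoint_left]
      intro T hT hT'
      rw [Finset.mem_sdiff, hΓ] at hT hT'
      have hSΛ := (Finset.mem_erase.mp hS).2
      have hS'Λ := (Finset.mem_erase.mp hS').2
      obtain ⟨hadj, hLeq⟩ := hL2' S hSΛ S' hS'Λ hne
      have h1 := hL3 S S' T hadj hT.1 hT'.1
      rw [hLeq] at h1
      exact hT.2 h1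
    have hFsub : ∀ S ∈ Λ.erase P, Γ S \ Λ ⊆ Finset.univ \ insert P (Γ P) := by
      intro S hS T hT
      rw [Finset.mem_sdiff, hΓ] at hT
      obtain ⟨hSP, hSΛ⟩ := Finset.mem_erase.mp hS
      obtain ⟨hadj, hLeq⟩ := hL2' S hSΛ P hPΛ hSP
      rw [Finset.mem_sdiff, Finset.mem_insert, hΓ]
      refine ⟨Finset.mem_univ _, ?_⟩
      rintro (h | h)
      · exact hT.2 (h ▸ hPΛ)
      · have h1 := hL3 S P T hadj hT.1 h
        rw [hLeq] at h1
        exact hT.2 h1
    have hcount : m * (d - m) ≤ 21 - d := by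
      have h1 : ((Λ.erase P).biUnion (fun S => Γ S \ Λ)).card =
          ∑ S ∈ Λ.erase P, (Γ S \ Λ).card :=
        Finset.card_biUnion (fun S hS S' hS' hne => hFdisj S hS S' hS' hne)
      have h2 : ∑ S ∈ Λ.erase P, (Γ S \ Λ).card = m * (d - m) := by
        rw [Finset.sum_congr rfl hFcard, Finset.sum_const, smul_eq_mul, ← hm]
      have h3 : (Λ.erase P).biUnion (fun S => Γ S \ Λ) ⊆ Finset.univ \ insert P (Γ P) :=
        Finset.biUnion_subset.mpr hFsub
      have h4 : (Finset.univ \ insert P (Γ P)).card = 21 - d := by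
        rw [Finset.card_univ_sdiff, hΩ, Finset.card_insert_of_notMem (hPΓ P), hΓc P]
        omega
      have h5 := Finset.card_le_card h3
      rw [h1, h2, h4] at h5
      exact h5
    have hmeq : m = d := n22_count_arith d m hd hm0 hm3 hmd hcount
    have h6 : Λ.erase P = Γ P :=
      Finset.eq_of_subset_of_card_le hsub (by rw [hΓc P, ← hm, hmeq])
    rw [← Finset.insert_erase hPΛ, h6]
  -- Step B: adjacent points have the same closed neighbourhood
  have hB : ∀ P Q, adj P Q → insert P (Γ P) = insert Q (Γ Q) := by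
    intro P Q hPQ
    obtain ⟨hPΛ, hQΛ⟩ := hL1 P Q hPQ
    have hQP : Q ≠ P := fun h => hirr P (h ▸ hPQ)
    obtain ⟨hadj, hLeq⟩ := hL2 P Q hPQ Q hQΛ P hPΛ hQP
    rw [← hA P Q hPQ, ← hA Q P hadj, hLeq]
  -- Step C: the classes have `d + 1` elements, so `d + 1` divides `22`
  have hC : d + 1 ∣ 22 := by
    have h1 := n22_dvd_card_of_fibers (Finset.univ : Finset Ω) (fun T => insert T (Γ T)) (d + 1)
      (by
        intro P _
        have h2 : (Finset.univ.filter (fun T => insert T (Γ T) = insert P (Γ P))) =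
            insert P (Γ P) := by
          ext T
          rw [Finset.mem_filter, Finset.mem_insert, hΓ]
          constructor
          · rintro ⟨-, h3⟩
            have h4 : T ∈ insert P (Γ P) := h3 ▸ Finset.mem_insert_self T (Γ T)
            rw [Finset.mem_insert, hΓ] at h4
            exact h4
          · rintro (h3 | h3)
            · exact ⟨Finset.mem_univ _, by rw [h3]⟩
            · exact ⟨Finset.mem_univ _, (hB P T h3).symm⟩
        rw [h2, Finset.card_insert_of_notMem (hPΓ P), hΓc P])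
    rwa [Finset.card_univ, hΩ] at h1
  have hd21 : d = 21 := by
    rcases hd with h | h | h
    · rw [h] at hC; omega
    · rw [h] at hC; omega
    · exact h
  intro P Q hPQ
  apply Finset.eq_univ_of_card
  rw [hA P Q hPQ, Finset.card_insert_of_notMem (hPΓ P), hΓc P, hd21, hΩ]

end Cfsg.Agent.N22
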