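import Cfsg.Agent.N22.GeoA
import Cfsg.Agent.N22.GeoC

/-!
# S4346, step 2, part B (helper1): the orbits of a Sylow 3-subgroup on the 22 Sylow 3-subgroups

`notes/S4346_helper1.md`, section 2 (c): `|P : P ∩ S| ∈ {1, 3, 9}`, the number of `S` with
`|P : P ∩ S| = 9` is divisible by `9`, so the number `d` of `S` with `|P : P ∩ S| = 3` is `3`, `12`
or `21`; it does not depend on `P`.
-/

set_option autoImplicit false
set_option linter.style.haveILetI false

namespace Cfsg.Agent.N22

universe u

variable {G : Type u} [Group G]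

/-- the orbit of `S` under `P` has `|P : P ∩ S|` elements -/
theorem n22_orbit_ncard (P S : Sylow 3 G) :
    (MulAction.orbit (↥(P : Subgroup G)) S).ncard =
      (S : Subgroup G).relIndex (P : Subgroup G) := by
  rw [← MulAction.index_stabilizer]
  have h1 : MulAction.stabilizer (↥(P : Subgroup G)) S =
      (Subgroup.normalizer ((S : Subgroup G) : Set G)).subgroupOf (P : Subgroup G) := by
    ext x
    rw [MulAction.mem_stabilizer_iff, Subgroup.mem_subgroupOf]
    exact Sylow.smul_eq_iff_mem_normalizer (g := (x : G)) (P := S)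
  rw [h1]
  change (Subgroup.normalizer ((S : Subgroup G) : Set G)).relIndex (P : Subgroup G) = _
  have h2 : (P : Subgroup G) ⊓ Subgroup.normalizer ((S : Subgroup G) : Set G) =
      (P : Subgroup G) ⊓ S := P.2.inf_normalizer_sylow S
  rw [← Subgroup.inf_relIndex_right, inf_comm, h2, Subgroup.inf_relIndex_left]

/-- `|P : P ∩ S|` is `1`, `3` or `9` -/
theorem n22_relIndex_cases [Finite G] (h22 : Nat.card (Sylow 3 G) = 22) (P S : Sylow 3 G) :
    (S : Subgroup G).relIndex (P : Subgroup G) = 1 ∨
      (S : Subgroup G).relIndex (P : Subgroup G) = 3 ∨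
      (S : Subgroup G).relIndex (P : Subgroup G) = 9 := by
  haveI : Fact (Nat.Prime 3) := ⟨Nat.prime_three⟩
  have h1 : (S : Subgroup G).relIndex (P : Subgroup G) ∣ Nat.card (P : Subgroup G) :=
    Subgroup.relIndex_dvd_card _ _
  obtain ⟨n, hn⟩ := IsPGroup.iff_card.mp P.2
  rw [hn] at h1
  obtain ⟨a, -, ha⟩ := (Nat.dvd_prime_pow Nat.prime_three).mp h1
  have h2 : (S : Subgroup G).relIndex (P : Subgroup G) ≤ 22 := by
    rw [← n22_orbit_ncard, ← h22]
    exact Set.ncard_le_card _
  rw [ha] at h2 ⊢
  have ha2 : a ≤ 2 := by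
    by_contra hcon
    have h3 : 3 ^ 3 ≤ 3 ^ a := Nat.pow_le_pow_right (by norm_num) (by omega)
    omega
  interval_cases a <;> simp

/-- conjugation invariance of `|P : P ∩ S|` -/
theorem n22_relIndex_smul (g : G) (P S : Sylow 3 G) :
    ((g • S : Sylow 3 G) : Subgroup G).relIndex ((g • P : Sylow 3 G) : Subgroup G) =
      (S : Subgroup G).relIndex (P : Subgroup G) := by
  rw [Sylow.coe_subgroup_smul, Sylow.coe_subgroup_smul, Subgroup.relIndex_pointwise_smul]

open Classical in
/-- the number of `S` with `|P : P ∩ S| = 3` is `3`, `12` or `21` -/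
theorem n22_degree_cases [Finite G] [Fintype (Sylow 3 G)] (h22 : Nat.card (Sylow 3 G) = 22)
    (P : Sylow 3 G) :
    (Finset.univ.filter (fun S : Sylow 3 G =>
        (S : Subgroup G).relIndex (P : Subgroup G) = 3)).card = 3 ∨
    (Finset.univ.filter (fun S : Sylow 3 G =>
        (S : Subgroup G).relIndex (P : Subgroup G) = 3)).card = 12 ∨
    (Finset.univ.filter (fun S : Sylow 3 G =>
        (S : Subgroup G).relIndex (P : Subgroup G) = 3)).card = 21 := by
  obtain ⟨r, hr⟩ : ∃ r : Sylow 3 G → ℕ,
      r = fun S : Sylow 3 G => (S : Subgroup G).relIndex (P : Subgroup G) := ⟨_, rfl⟩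
  have hr' : ∀ S : Sylow 3 G, (S : Subgroup G).relIndex (P : Subgroup G) = r S := fun S => by
    rw [hr]
  simp only [hr']
  have hcases : ∀ S, r S = 1 ∨ r S = 3 ∨ r S = 9 := fun S => by
    rw [← hr']; exact n22_relIndex_cases h22 P S
  -- the three parts
  have hsum : Fintype.card (Sylow 3 G) =
      (Finset.univ.filter (fun S => r S = 1)).card + (Finset.univ.filter (fun S => r S = 3)).card
        + (Finset.univ.filter (fun S => r S = 9)).card := by
    rw [Finset.card_filter, Finset.card_filter, Finset.card_filter, ← Finset.sum_add_distrib,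
      ← Finset.sum_add_distrib, ← Finset.card_univ, Finset.card_eq_sum_ones]
    apply Finset.sum_congr rfl
    intro S _
    rcases hcases S with h | h | h <;> rw [h] <;> norm_num
  have h1 : (Finset.univ.filter (fun S => r S = 1)) = {P} := by
    ext S
    rw [Finset.mem_filter, Finset.mem_singleton]
    constructor
    · rintro ⟨-, h⟩
      rw [← hr'] at h
      exact n22_relIndex_eq_one h
    · rintro rfl
      refine ⟨Finset.mem_univ _, ?_⟩
      rw [← hr', Subgroup.relIndex_self]
  -- the orbits of size 9
  have h9 : 9 ∣ (Finset.univ.filter (fun S => r S = 9)).card := by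
    apply n22_dvd_card_of_fibers _ (fun S => MulAction.orbit (↥(P : Subgroup G)) S) 9
    intro S hS
    rw [Finset.mem_filter] at hS
    have h2 : (Finset.univ.filter (fun S => r S = 9)).filter
        (fun T => MulAction.orbit (↥(P : Subgroup G)) T = MulAction.orbit (↥(P : Subgroup G)) S) =
        Finset.univ.filter (fun T => T ∈ MulAction.orbit (↥(P : Subgroup G)) S) := by
      ext T
      rw [Finset.mem_filter, Finset.mem_filter, Finset.mem_filter]
      constructor
      · rintro ⟨-, h3⟩
        refine ⟨Finset.mem_univ _, ?_⟩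
        rw [← h3]
        exact MulAction.mem_orbit_self T
      · rintro ⟨-, h3⟩
        have h4 := MulAction.orbit_eq_iff.mpr h3
        refine ⟨⟨Finset.mem_univ _, ?_⟩, h4⟩
        rw [← hr', ← n22_orbit_ncard, h4, n22_orbit_ncard, hr', hS.2]
    rw [h2]
    have h5 : ((Finset.univ.filter (fun T => T ∈ MulAction.orbit (↥(P : Subgroup G)) S) :
        Finset (Sylow 3 G)) : Set (Sylow 3 G)) = MulAction.orbit (↥(P : Subgroup G)) S := by
      ext T
      simp
    rw [← Set.ncard_coe_finset, h5, n22_orbit_ncard, hr', hS.2]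
  rw [← Nat.card_eq_fintype_card, h22, h1, Finset.card_singleton] at hsum
  obtain ⟨k, hk⟩ := h9
  omega

open Classical in
/-- the number of `S` with `|P : P ∩ S| = 3` does not depend on `P` -/
theorem n22_degree_const [Finite G] [Fintype (Sylow 3 G)] (P P' : Sylow 3 G) :
    (Finset.univ.filter (fun S : Sylow 3 G =>
        (S : Subgroup G).relIndex (P : Subgroup G) = 3)).card =
    (Finset.univ.filter (fun S : Sylow 3 G =>
        (S : Subgroup G).relIndex (P' : Subgroup G) = 3)).card := by
  haveI : Fact (Nat.Prime 3) := ⟨Nat.prime_three⟩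
  obtain ⟨g, hg⟩ := MulAction.exists_smul_eq G P P'
  apply Finset.card_equiv (MulAction.toPerm g)
  intro S
  rw [Finset.mem_filter, Finset.mem_filter, ← hg, MulAction.toPerm_apply, n22_relIndex_smul]
  simp

end Cfsg.Agent.N22
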