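import Cfsg.Agent.N22.GeoB

/-!
# S4346, step 2, part D (helper1): the Sylow 3-subgroups have order 3

`notes/S4346_helper1.md`, section 2 (h): a finite group with exactly `22` Sylow `3`-subgroups which
acts faithfully on them has Sylow `3`-subgroups of order `3`.
-/

set_option autoImplicit false
set_option linter.style.haveILetI false

namespace Cfsg.Agent.N22

universe u

variable {G : Type u} [Group G]

open Classical in
/-- the number of Sylow subgroups containing a `3`-subgroup `D` is `≡ 22 mod 3` -/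
theorem n22_line_card [Finite G] [Fintype (Sylow 3 G)] (h22 : Nat.card (Sylow 3 G) = 22)
    (D : Subgroup G) (hD : IsPGroup 3 D) :
    (Finset.univ.filter (fun S : Sylow 3 G => D ≤ S)).card % 3 = 1 := by
  haveI : Fact (Nat.Prime 3) := ⟨Nat.prime_three⟩
  have h1 := hD.card_modEq_card_fixedPoints (Sylow 3 G)
  have h2 : ((Finset.univ.filter (fun S : Sylow 3 G => D ≤ S) : Finset (Sylow 3 G)) :
      Set (Sylow 3 G)) = MulAction.fixedPoints (↥D) (Sylow 3 G) := by
    ext S
    rw [hD.sylow_mem_fixedPoints_iff]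
    simp
  rw [Nat.card_coe_set_eq, ← h2, Set.ncard_coe_finset, h22] at h1
  have h3 := h1.symm
  unfold Nat.ModEq at h3
  omega

set_option maxHeartbeats 800000 in
/-- **step 2**: `|P| = 3` -/
theorem n22_card_three [Finite G] (h22 : Nat.card (Sylow 3 G) = 22)
    (hfaith : ∀ g : G, (∀ Q : Sylow 3 G, g • Q = Q) → g = 1) (P : Sylow 3 G) :
    Nat.card (P : Subgroup G) = 3 := by
  classical
  haveI : Fintype (Sylow 3 G) := Fintype.ofFinite _
  haveI : Fact (Nat.Prime 3) := ⟨Nat.prime_three⟩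
  have hΩ : Fintype.card (Sylow 3 G) = 22 := by rw [← Nat.card_eq_fintype_card]; exact h22
  obtain ⟨d, hd⟩ : ∃ d : ℕ, d = (Finset.univ.filter (fun S : Sylow 3 G =>
      (S : Subgroup G).relIndex (P : Subgroup G) = 3)).card := ⟨_, rfl⟩
  have hdc : d = 3 ∨ d = 12 ∨ d = 21 := by
    rw [hd]; exact n22_degree_cases h22 P
  have hirr : ∀ P : Sylow 3 G, ¬ (P : Subgroup G).relIndex (P : Subgroup G) = 3 := by
    intro P
    rw [Subgroup.relIndex_self]
    norm_num
  have hsymm : ∀ P Q : Sylow 3 G, (Q : Subgroup G).relIndex (P : Subgroup G) = 3 →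
      (P : Subgroup G).relIndex (Q : Subgroup G) = 3 := by
    intro P Q h
    rw [← n22_relIndex_symm P Q]; exact h
  have hdeg : ∀ P' : Sylow 3 G, (Finset.univ.filter (fun S : Sylow 3 G =>
      (S : Subgroup G).relIndex (P' : Subgroup G) = 3)).card = d := by
    intro P'
    rw [hd]; exact n22_degree_const P' P
  have hL1 : ∀ P Q : Sylow 3 G, (Q : Subgroup G).relIndex (P : Subgroup G) = 3 →
      P ∈ Finset.univ.filter (fun S : Sylow 3 G => (P : Subgroup G) ⊓ Q ≤ S) ∧
      Q ∈ Finset.univ.filter (fun S : Sylow 3 G => (P : Subgroup G) ⊓ Q ≤ S) := by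
    intro P Q _
    exact ⟨Finset.mem_filter.mpr ⟨Finset.mem_univ _, inf_le_left⟩,
      Finset.mem_filter.mpr ⟨Finset.mem_univ _, inf_le_right⟩⟩
  have hL2 : ∀ P Q : Sylow 3 G, (Q : Subgroup G).relIndex (P : Subgroup G) = 3 →
      ∀ S ∈ Finset.univ.filter (fun S : Sylow 3 G => (P : Subgroup G) ⊓ Q ≤ S),
      ∀ S' ∈ Finset.univ.filter (fun S : Sylow 3 G => (P : Subgroup G) ⊓ Q ≤ S), S ≠ S' →
      (S' : Subgroup G).relIndex (S : Subgroup G) = 3 ∧
      Finset.univ.filter (fun T : Sylow 3 G => (S : Subgroup G) ⊓ S' ≤ T) =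
        Finset.univ.filter (fun T : Sylow 3 G => (P : Subgroup G) ⊓ Q ≤ T) := by
    intro P Q hPQ S hS S' hS' hne
    obtain ⟨h1, h2⟩ := n22_line_inter P Q S S' hPQ (Finset.mem_filter.mp hS).2
      (Finset.mem_filter.mp hS').2 hne
    exact ⟨h1, by rw [h2]⟩
  have hL3 : ∀ P Q S : Sylow 3 G, (Q : Subgroup G).relIndex (P : Subgroup G) = 3 →
      (S : Subgroup G).relIndex (P : Subgroup G) = 3 →
      (S : Subgroup G).relIndex (Q : Subgroup G) = 3 →
      S ∈ Finset.univ.filter (fun T : Sylow 3 G => (P : Subgroup G) ⊓ Q ≤ T) := by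
    intro P Q S h1 h2 h3
    exact Finset.mem_filter.mpr ⟨Finset.mem_univ _, n22_triangle P Q S h1 h2 h3⟩
  have hL4 : ∀ P Q : Sylow 3 G, (Q : Subgroup G).relIndex (P : Subgroup G) = 3 →
      (Finset.univ.filter (fun S : Sylow 3 G => (P : Subgroup G) ⊓ Q ≤ S)).card % 3 = 1 := by
    intro P Q _
    exact n22_line_card h22 _ P.2.to_inf_left
  have hall := n22_abstract hΩ
    (fun P S : Sylow 3 G => (S : Subgroup G).relIndex (P : Subgroup G) = 3)
    (fun P Q : Sylow 3 G => Finset.univ.filter (fun S : Sylow 3 G => (P : Subgroup G) ⊓ Q ≤ S))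
    d hdc hirr hsymm hdeg hL1 hL2 hL3 hL4
  -- a neighbour of `P`
  have hne : (Finset.univ.filter (fun S : Sylow 3 G =>
      (S : Subgroup G).relIndex (P : Subgroup G) = 3)).Nonempty := by
    rw [← Finset.card_pos, ← hd]
    rcases hdc with h | h | h <;> omega
  obtain ⟨Q, hQ⟩ := hne
  have hPQ : (Q : Subgroup G).relIndex (P : Subgroup G) = 3 := (Finset.mem_filter.mp hQ).2
  have hD : ∀ S : Sylow 3 G, (P : Subgroup G) ⊓ Q ≤ S := by
    intro S
    have h1 : S ∈ Finset.univ.filter (fun S : Sylow 3 G => (P : Subgroup G) ⊓ Q ≤ S) := by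
      rw [hall P Q hPQ]
      exact Finset.mem_univ _
    exact (Finset.mem_filter.mp h1).2
  have hbot : (P : Subgroup G) ⊓ Q = ⊥ := by
    rw [eq_bot_iff]
    intro g hg
    rw [Subgroup.mem_bot]
    apply hfaith
    intro S
    rw [Sylow.smul_eq_iff_mem_normalizer]
    exact Subgroup.le_normalizer (hD S hg)
  have h1 := n22_card_mul_relIndex (inf_le_left : (P : Subgroup G) ⊓ Q ≤ P)
  rw [Subgroup.inf_relIndex_left, hPQ, hbot, Subgroup.card_bot] at h1
  omega

end Cfsg.Agent.N22
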