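import Mathlib

/-!
# S4346 (`n_3 ≠ 22`), step (3): a minimal counterexample is perfect (lead)

`n_3(G) = 22`, `G = P N` for all normal `N ≠ 1`, `|P| = 3`.  If `G' ≠ G` then `|G : G'| = 3`,
`11 ∣ |G'|`; a Sylow `11`-subgroup `R` of `G'` is normalised by an element `x` of order `3`
(Frattini), the `R`-orbit of `⟨x⟩` in `Syl_3(G)` has `11`-power length `≤ 22` and `≡ 1 (mod 3)`
(`⟨x⟩` acts on it with exactly one fixed point), so it is a point: `R ≤ N_G(⟨x⟩)`, of order
`|G| / 22`; but `|R|` is the full power of `11` in `|G|`.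
Plan and frozen header: `notes/S4346_helper1.md` (helper1).
-/

set_option autoImplicit false
set_option linter.style.haveILetI false

namespace Cfsg.Agent.N22

universe u

open Subgroup MulAction

/-- If the Sylow `p`-subgroup `Q` normalises the subgroup `B`, the `B`-orbit of `Q` among the Sylow
`p`-subgroups has length `≡ 1 (mod p)`. -/
theorem n22_orbit_modEq {G : Type u} [Group G] [Finite G] (p : ℕ) [Fact p.Prime] (Q : Sylow p G)
    (B : Subgroup G) (hB : (Q : Subgroup G) ≤ Subgroup.normalizer (B : Set G)) :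
    Nat.card (orbit B Q) ≡ 1 [MOD p] := by
  -- the sub-action of `Q` on the orbit
  let O : SubMulAction (Q : Subgroup G) (Sylow p G) :=
    { carrier := orbit B Q
      smul_mem' := by
        rintro c S ⟨r, rfl⟩
        have hc : (c : G) • Q = Q :=
          Sylow.smul_eq_iff_mem_normalizer.mpr (Subgroup.le_normalizer c.2)
        have hr : (c : G) * (r : G) * (c : G)⁻¹ ∈ B :=
          ((Subgroup.mem_normalizer_iff.mp (hB c.2)) (r : G)).mp r.2
        refine ⟨⟨(c : G) * (r : G) * (c : G)⁻¹, hr⟩, ?_⟩
        change ((c : G) * (r : G) * (c : G)⁻¹) • Q = (c : G) • ((r : G) • Q)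
        rw [mul_smul, mul_smul]
        congr 2
        exact Sylow.smul_eq_iff_mem_normalizer.mpr
          (Subgroup.le_normalizer (inv_mem c.2)) }
  have hfix : fixedPoints (Q : Subgroup G) O = {⟨Q, mem_orbit_self Q⟩} := by
    ext ⟨S, hS⟩
    rw [Set.mem_singleton_iff, mem_fixedPoints]
    constructor
    · intro h
      have h1 : S ∈ fixedPoints (Q : Subgroup G) (Sylow p G) := by
        rw [mem_fixedPoints]
        intro c
        exact congrArg Subtype.val (h c)
      rw [Q.2.sylow_mem_fixedPoints_iff] at h1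
      apply Subtype.ext
      exact Sylow.ext (Q.3 S.2 h1)
    · intro h c
      have h2 : S = Q := congrArg Subtype.val h
      apply Subtype.ext
      change (c : G) • S = S
      rw [h2]
      exact Sylow.smul_eq_iff_mem_normalizer.mpr (Subgroup.le_normalizer c.2)
  have hcard : Nat.card (fixedPoints (Q : Subgroup G) O) = 1 := by
    rw [hfix]
    simp
  have := Q.2.card_modEq_card_fixedPoints O
  rw [hcard] at this
  exact this

/-- **Step (3).** -/
theorem n22_perfect {G : Type u} [Group G] [Finite G] (h22 : Nat.card (Sylow 3 G) = 22)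
    (hsup : ∀ (P : Sylow 3 G) (N : Subgroup G), N.Normal → N ≠ ⊥ → (P : Subgroup G) ⊔ N = ⊤)
    (hP : ∀ P : Sylow 3 G, Nat.card (P : Subgroup G) = 3) : commutator G = ⊤ := by
  haveI : Fact (Nat.Prime 3) := ⟨Nat.prime_three⟩
  haveI : Fact (Nat.Prime 11) := ⟨by norm_num⟩
  by_contra hD
  obtain ⟨P⟩ : Nonempty (Sylow 3 G) := Sylow.nonempty
  have hG0 : Nat.card G ≠ 0 := Nat.card_pos.ne'
  -- `G' ≠ 1`
  have hD1 : commutator G ≠ ⊥ := by
    intro h0
    rw [commutator_def, Subgroup.commutator_top_right_eq_bot_iff_le_center] at h0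
    have hle : (⊤ : Subgroup G) ≤ Subgroup.normalizer ((P : Subgroup G) : Set G) :=
      h0.trans (Subgroup.center_le_normalizer _)
    have hidx : (Subgroup.normalizer ((P : Subgroup G) : Set G)).index = 1 := by
      rw [Subgroup.index_eq_one]
      exact top_le_iff.mp hle
    have : Nat.card (Sylow 3 G) = (Subgroup.normalizer ((P : Subgroup G) : Set G)).index :=
      Sylow.card_eq_index_normalizer P
    rw [h22, hidx] at this
    omega
  have htop := hsup P (commutator G) inferInstance hD1
  -- `|G : G'| = 3`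
  have hidx3 : (commutator G).index = 3 := by
    have h1 : (commutator G).relIndex (commutator G ⊔ (P : Subgroup G)) =
        (commutator G).relIndex (P : Subgroup G) := Subgroup.relIndex_sup_left _ _
    rw [sup_comm, htop, Subgroup.relIndex_top_right] at h1
    have h2 : (commutator G).relIndex (P : Subgroup G) ∣ Nat.card (P : Subgroup G) :=
      Subgroup.relIndex_dvd_card _ _
    rw [← h1, hP P] at h2
    have h3 : (commutator G).index ≠ 1 := fun h => hD (Subgroup.index_eq_one.mp h)
    rcases (Nat.dvd_prime Nat.prime_three).mp h2 with h | h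
    · exact absurd h h3
    · exact h
  have hcardG : Nat.card (commutator G) * 3 = Nat.card G := by
    rw [← hidx3]
    exact Subgroup.card_mul_index _
  -- `22 ∣ |G|`, so `11 ∣ |G'|`
  have h22dvd : 22 ∣ Nat.card G := by
    rw [← h22]
    exact (Sylow.card_dvd_index P).trans (Subgroup.index_dvd_card _)
  have h11 : 11 ∣ Nat.card (commutator G) := by
    have h1 : 11 ∣ Nat.card (commutator G) * 3 := by
      rw [hcardG]
      exact Dvd.dvd.trans (by norm_num) h22dvd
    exact (Nat.Coprime.dvd_of_dvd_mul_right (by norm_num) h1)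
  -- valuations
  have hv : (Nat.card G).factorization 11 = (Nat.card (commutator G)).factorization 11 := by
    rw [← hcardG, Nat.factorization_mul Nat.card_pos.ne' (by norm_num)]
    simp [Nat.factorization_eq_zero_of_not_dvd (show ¬ 11 ∣ 3 by norm_num)]
  -- a Sylow `11`-subgroup of `G'` and its image in `G`
  obtain ⟨R⟩ : Nonempty (Sylow 11 (commutator G)) := Sylow.nonempty
  set R₀ : Subgroup G := (R : Subgroup (commutator G)).map (commutator G).subtype with hR₀
  have hR₀card : Nat.card R₀ = 11 ^ (Nat.card G).factorization 11 := by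
    rw [hR₀, Subgroup.card_map_of_injective (Subgroup.subtype_injective _), hv]
    exact Sylow.card_eq_multiplicity R
  -- Frattini
  have hfrat : Subgroup.normalizer (R₀ : Set G) ⊔ commutator G = ⊤ :=
    Sylow.normalizer_sup_eq_top R
  have h3N : 3 ∣ Nat.card (Subgroup.normalizer (R₀ : Set G)) := by
    have h1 : (commutator G).relIndex (commutator G ⊔ Subgroup.normalizer (R₀ : Set G)) =
        (commutator G).relIndex (Subgroup.normalizer (R₀ : Set G)) :=
      Subgroup.relIndex_sup_left _ _
    rw [sup_comm, hfrat, Subgroup.relIndex_top_right, hidx3] at h1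
    rw [h1]
    exact Subgroup.relIndex_dvd_card _ _
  obtain ⟨x', hx'⟩ := exists_prime_orderOf_dvd_card' 3 h3N
  set x : G := (x' : G) with hx
  have hxN : x ∈ Subgroup.normalizer (R₀ : Set G) := x'.2
  have hxord : orderOf x = 3 := by rw [hx, Subgroup.orderOf_coe, hx']
  -- the Sylow `3`-subgroup `⟨x⟩`
  have hmult := Sylow.card_eq_multiplicity P
  rw [hP P] at hmult
  have hzcard : Nat.card (Subgroup.zpowers x) = 3 ^ (Nat.card G).factorization 3 := by
    rw [Nat.card_zpowers, hxord]
    exact hmult
  set Q : Sylow 3 G := Sylow.ofCard (Subgroup.zpowers x) hzcard with hQ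
  have hQcoe : (Q : Subgroup G) = Subgroup.zpowers x := Sylow.coe_ofCard _ hzcard
  have hQN : (Q : Subgroup G) ≤ Subgroup.normalizer (R₀ : Set G) := by
    rw [hQcoe, Subgroup.zpowers_le]
    exact hxN
  -- the orbit
  have hmod := n22_orbit_modEq 3 Q R₀ hQN
  have hle : Nat.card (orbit R₀ Q) ≤ 22 := by
    rw [← h22]
    exact Nat.card_le_card_of_injective Subtype.val Subtype.val_injective
  have hdvd : Nat.card (orbit R₀ Q) ∣ 11 ^ (Nat.card G).factorization 11 := by
    rw [← hR₀card, Nat.card_coe_set_eq, ← MulAction.index_stabilizer]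
    exact Subgroup.index_dvd_card _
  have hone : Nat.card (orbit R₀ Q) = 1 := by
    obtain ⟨i, -, hi⟩ := (Nat.dvd_prime_pow (by norm_num : Nat.Prime 11)).mp hdvd
    rw [hi] at hle hmod ⊢
    rcases i with _ | _ | i
    · rfl
    · exfalso
      revert hmod
      decide
    · exfalso
      have : 11 ^ 2 ≤ 11 ^ (i + 1 + 1) := Nat.pow_le_pow_right (by norm_num) (by omega)
      omega
  -- `R₀ ≤ N_G(Q)`
  have hsub : Subsingleton (orbit R₀ Q) := (Nat.card_eq_one_iff_unique.mp hone).1
  have hRN : R₀ ≤ Subgroup.normalizer ((Q : Subgroup G) : Set G) := by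
    intro r hr
    apply Sylow.smul_eq_iff_mem_normalizer.mp
    have h1 : (⟨(⟨r, hr⟩ : R₀) • Q, mem_orbit _ _⟩ : orbit R₀ Q) = ⟨Q, mem_orbit_self Q⟩ :=
      Subsingleton.elim _ _
    exact congrArg Subtype.val h1
  -- count
  have hNQ : 22 * Nat.card (Subgroup.normalizer ((Q : Subgroup G) : Set G)) = Nat.card G := by
    have h1 : Nat.card (Sylow 3 G) = (Subgroup.normalizer ((Q : Subgroup G) : Set G)).index :=
      Sylow.card_eq_index_normalizer Q
    rw [← h22, h1]
    exact Subgroup.index_mul_card _
  have hdvdN : 11 ^ (Nat.card G).factorization 11 ∣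
      Nat.card (Subgroup.normalizer ((Q : Subgroup G) : Set G)) := by
    rw [← hR₀card]
    exact Subgroup.card_dvd_of_le hRN
  obtain ⟨t, ht⟩ := hdvdN
  apply Nat.pow_succ_factorization_not_dvd hG0 (by norm_num : Nat.Prime 11)
  have h1 : Nat.card G = 22 * (11 ^ (Nat.card G).factorization 11 * t) := by
    rw [← ht]
    exact hNQ.symm
  refine ⟨2 * t, ?_⟩
  calc Nat.card G = 22 * (11 ^ (Nat.card G).factorization 11 * t) := h1
    _ = 11 ^ ((Nat.card G).factorization 11 + 1) * (2 * t) := by ring

end Cfsg.Agent.N22
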