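import Mathlib
import Cfsg.Agent.BR.QuotSyl

/-!
# S4346 (`n_3 ≠ 22`), step (1): a minimal counterexample (lead)

`G` with `n_3(G) = 22` and no smaller group (in the same universe) with `n_3 = 22`.  Then
`G = P N` for every Sylow `3`-subgroup `P` and every normal `N ≠ 1`, and `G` acts faithfully on
`Syl_3(G)`.  Plan and frozen headers: `notes/S4346_helper1.md` (helper1).
-/

set_option autoImplicit false
set_option linter.style.haveILetI false

namespace Cfsg.Agent.N22

universe u

open Subgroup

/-- **(Q1)** `n_p(G ⧸ N)` divides `n_p(G)`. -/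
theorem n22_card_sylow_quot_dvd {G : Type u} [Group G] [Finite G] (p : ℕ) [Fact p.Prime]
    (N : Subgroup G) [N.Normal] : Nat.card (Sylow p (G ⧸ N)) ∣ Nat.card (Sylow p G) := by
  obtain ⟨a, ha⟩ := Cfsg.Agent.BR.br_qs_card p N
  exact ⟨1 + a * p, ha⟩

/-- every Sylow `p`-subgroup lies in a normal subgroup containing one of them -/
theorem n22_sylow_le_normal {G : Type u} [Group G] [Finite G] (p : ℕ) [Fact p.Prime]
    (K : Subgroup G) [hK : K.Normal] (P : Sylow p G) (hP : (P : Subgroup G) ≤ K) (Q : Sylow p G) :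
    (Q : Subgroup G) ≤ K := by
  obtain ⟨g, rfl⟩ := MulAction.exists_smul_eq G P Q
  intro x hx
  rw [Sylow.coe_subgroup_smul, Subgroup.mem_pointwise_smul_iff_inv_smul_mem] at hx
  have h1 := hP hx
  rw [MulAut.smul_def, ← map_inv, MulAut.conj_apply, inv_inv] at h1
  have h2 := hK.conj_mem _ h1 g
  have h3 : g * (g⁻¹ * x * g) * g⁻¹ = x := by group
  rwa [h3] at h2

/-- **(Q2)** a normal subgroup containing a Sylow `p`-subgroup has the same number of them. -/
theorem n22_card_sylow_normal {G : Type u} [Group G] [Finite G] (p : ℕ) [Fact p.Prime]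
    (K : Subgroup G) [hK : K.Normal] (P : Sylow p G) (hP : (P : Subgroup G) ≤ K) :
    Nat.card (Sylow p K) = Nat.card (Sylow p G) := by
  symm
  apply Nat.card_eq_of_bijective
    (fun Q : Sylow p G => Q.subtype (n22_sylow_le_normal p K P hP Q))
  constructor
  · intro Q₁ Q₂ h
    exact Sylow.subtype_injective h
  · intro S
    obtain ⟨Q, hQ⟩ := S.exists_comap_subtype_eq
    refine ⟨Q, ?_⟩
    apply Sylow.ext
    rw [Sylow.coe_subtype, ← hQ]
    rfl

/-- a proper subgroup has smaller order -/
theorem n22_card_lt_of_ne_top {G : Type u} [Group G] [Finite G] (K : Subgroup G) (hK : K ≠ ⊤) :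
    Nat.card K < Nat.card G := by
  apply lt_of_le_of_ne (Subgroup.card_le_card_group K)
  intro h
  exact hK ((Subgroup.card_eq_iff_eq_top K).mp h)

/-- a proper quotient has smaller order -/
theorem n22_card_quot_lt {G : Type u} [Group G] [Finite G] (N : Subgroup G) [N.Normal]
    (hN : N ≠ ⊥) : Nat.card (G ⧸ N) < Nat.card G := by
  have h1 : Nat.card (G ⧸ N) = N.index := rfl
  have h2 := Subgroup.card_mul_index N
  have h3 : 1 < Nat.card N := by
    rw [Finite.one_lt_card_iff_nontrivial]
    exact (Subgroup.nontrivial_iff_ne_bot N).mpr hN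
  have h4 : 0 < N.index := Nat.pos_of_ne_zero (Subgroup.index_ne_zero_of_finite)
  rw [h1]
  nlinarith

/-- **Step (1a).** In a minimal counterexample `G = P N` for every normal `N ≠ 1`. -/
theorem n22_sup_eq_top {G : Type u} [Group G] [Finite G] (h22 : Nat.card (Sylow 3 G) = 22)
    (hmin : ∀ (H : Type u) [Group H] [Finite H], Nat.card H < Nat.card G →
      Nat.card (Sylow 3 H) ≠ 22)
    (P : Sylow 3 G) (N : Subgroup G) (hN : N.Normal) (hN1 : N ≠ ⊥) :
    (P : Subgroup G) ⊔ N = ⊤ := by
  haveI := hN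
  haveI : Fact (Nat.Prime 3) := ⟨Nat.prime_three⟩
  -- the quotient has a normal Sylow subgroup
  have hdvd := n22_card_sylow_quot_dvd 3 N
  rw [h22] at hdvd
  have hmod := card_sylow_modEq_one 3 (G ⧸ N)
  have hne := hmin (G ⧸ N) (n22_card_quot_lt N hN1)
  have hone : Nat.card (Sylow 3 (G ⧸ N)) = 1 := by
    have hle := Nat.le_of_dvd (by norm_num) hdvd
    have hpos : 0 < Nat.card (Sylow 3 (G ⧸ N)) := Nat.card_pos
    unfold Nat.ModEq at hmod
    interval_cases h : Nat.card (Sylow 3 (G ⧸ N)) <;> simp_all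
  haveI : Subsingleton (Sylow 3 (G ⧸ N)) := (Nat.card_eq_one_iff_unique.mp hone).1
  have hs : Function.Surjective (QuotientGroup.mk' N) := QuotientGroup.mk'_surjective N
  set P' : Sylow 3 (G ⧸ N) := P.mapSurjective hs with hP'
  haveI hP'n : (P' : Subgroup (G ⧸ N)).Normal := Sylow.normal_of_subsingleton P'
  -- `K = P N` is normal
  set K : Subgroup G := (P' : Subgroup (G ⧸ N)).comap (QuotientGroup.mk' N) with hK
  haveI hKn : K.Normal := hP'n.comap _
  have hKeq : K = (P : Subgroup G) ⊔ N := by
    rw [hK, hP', Sylow.coe_mapSurjective, Subgroup.comap_map_eq, QuotientGroup.ker_mk']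
  have hPK : (P : Subgroup G) ≤ K := by rw [hKeq]; exact le_sup_left
  have hcardK := n22_card_sylow_normal 3 K P hPK
  rw [h22] at hcardK
  rw [← hKeq]
  by_contra hKtop
  exact hmin K (n22_card_lt_of_ne_top K hKtop) hcardK

/-- **Step (1b).** A minimal counterexample acts faithfully on its Sylow `3`-subgroups. -/
theorem n22_faithful {G : Type u} [Group G] [Finite G] (h22 : Nat.card (Sylow 3 G) = 22)
    (hmin : ∀ (H : Type u) [Group H] [Finite H], Nat.card H < Nat.card G →
      Nat.card (Sylow 3 H) ≠ 22)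
    (g : G) (hg : ∀ Q : Sylow 3 G, g • Q = Q) : g = 1 := by
  haveI : Fact (Nat.Prime 3) := ⟨Nat.prime_three⟩
  set Ker : Subgroup G := (MulAction.toPermHom G (Sylow 3 G)).ker with hKer
  have hmem : ∀ k : G, k ∈ Ker ↔ ∀ Q : Sylow 3 G, k • Q = Q := by
    intro k
    rw [hKer, MonoidHom.mem_ker]
    constructor
    · intro h Q
      have := congrArg (fun σ : Equiv.Perm (Sylow 3 G) => σ Q) h
      simpa using this
    · intro h
      apply Equiv.Perm.ext
      intro Q
      exact h Q
  by_contra hg1
  have hKer1 : Ker ≠ ⊥ := by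
    intro h
    apply hg1
    have : g ∈ Ker := (hmem g).mpr hg
    rwa [h, Subgroup.mem_bot] at this
  obtain ⟨P⟩ : Nonempty (Sylow 3 G) := Sylow.nonempty
  have htop := n22_sup_eq_top h22 hmin P Ker (MonoidHom.normal_ker _) hKer1
  have hle : (P : Subgroup G) ⊔ Ker ≤ Subgroup.normalizer ((P : Subgroup G) : Set G) := by
    apply sup_le
    · exact Subgroup.le_normalizer
    · intro k hk
      exact Sylow.smul_eq_iff_mem_normalizer.mp ((hmem k).mp hk P)
  rw [htop] at hle
  have hidx : (Subgroup.normalizer ((P : Subgroup G) : Set G)).index = 1 := by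
    rw [Subgroup.index_eq_one]
    exact top_le_iff.mp hle
  have := Sylow.card_eq_index_normalizer P
  rw [h22] at this
  have h2 : (Subgroup.normalizer ((P : Subgroup G) : Set G)).index = 22 := this.symm
  omega

end Cfsg.Agent.N22
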